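import Cfsg.Agent.Lib.KnownC.AutPSL.MaxOrd.Twisted
import Cfsg.Agent.Lib.KnownC.AutPSL.Outer
import Cfsg.Agent.Lib.KnownC.AutPSL.GraphField
import Cfsg.Agent.S2261
import Mathlib

set_option autoImplicit false
set_option linter.unusedSectionVars false

/-! The largest element order of `Aut PSL_n(q)`. -/

namespace CfsgLib.KnownC.AutPSL.MaxOrd

open Matrix CfsgLib.KnownC.AutPSL

variable {F : Type*} [Field F] [Finite F] {n : ℕ}

local notation "PSLn" => Matrix.ProjectiveSpecialLinearGroup (Fin n) F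

theorem map_itGL (σ : F ≃+* F) (X : GL (Fin n) F) :
    Matrix.GeneralLinearGroup.map σ.toRingHom (itGL X) = itGL (Matrix.GeneralLinearGroup.map σ.toRingHom X) := by
  refine Units.ext ?_
  show (((X⁻¹ : GL (Fin n) F) : Matrix (Fin n) (Fin n) F).transpose).map σ =
    (((Matrix.GeneralLinearGroup.map σ.toRingHom X)⁻¹ : GL (Fin n) F) : Matrix (Fin n) (Fin n) F).transpose
  rw [← map_inv, Matrix.transpose_map]
  rfl

theorem itGL_mul' (X Y : GL (Fin n) F) : itGL (X * Y) = itGL X * itGL Y := by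
  refine Units.ext ?_
  show (((X * Y)⁻¹ : GL (Fin n) F) : Matrix (Fin n) (Fin n) F).transpose = _
  rw [_root_.mul_inv_rev, Units.val_mul, Matrix.transpose_mul]
  rfl

theorem itGL_itGL' (X : GL (Fin n) F) : itGL (itGL X) = X := by
  refine Units.ext ?_
  show (((itGL X)⁻¹ : GL (Fin n) F) : Matrix (Fin n) (Fin n) F).transpose = _
  show ((X : Matrix (Fin n) (Fin n) F).transpose).transpose = _
  rw [Matrix.transpose_transpose]

theorem semiPow_comm (A : GL (Fin n) F) (σ : F ≃+* F) {r : ℕ} (hr : σ ^ r = 1) :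
    A * Matrix.GeneralLinearGroup.map σ.toRingHom (semiPow A σ r) = semiPow A σ r * A := by
  have h := semiPow_succ' A σ r
  rw [hr] at h
  exact h.trans (congrArg (semiPow A σ r * ·) (map_refl_eq A))

theorem semi_bound (hn : 2 ≤ n) (hne : ¬ (n = 2 ∧ Nat.card F = 4)) (A : GL (Fin n) F) (σ : F ≃+* F) :
    (Nat.card F - 1) * orderOf (semiAut A σ) ≤ Nat.card F ^ n - 1 := by
  haveI : Finite (F ≃+* F) := Finite.of_injective (fun e : F ≃+* F => (e : F → F)) DFunLike.coe_injective
  haveI : Fintype F := Fintype.ofFinite F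
  set p := ringChar F
  haveI : Fact p.Prime := ⟨CharP.char_is_prime F p⟩
  obtain ⟨⟨f, hf⟩, hp, hF⟩ := FiniteField.card F p
  set r := orderOf σ with hr
  have hr1 : 1 ≤ r := orderOf_pos σ
  obtain ⟨hrf, hk⟩ := card_fixField (p := p) (f := f) hF σ rfl hr1
  set a := Nat.card (fixField σ) with ha
  have hqa : Nat.card F = a ^ r := by
    rw [hk, ← pow_mul, Nat.div_mul_cancel hrf, Nat.card_eq_fintype_card]; exact hF
  have ha2 : 2 ≤ a := Finite.one_lt_card
  set L := semiPow A σ r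
  have hL := semiPow_comm A σ (pow_orderOf_eq_one σ)
  have hc := crude_charpoly (by omega) σ L A hL
  have hpow : semiAut A σ ^ r = piHom L := by
    rw [semiAut_pow, pow_orderOf_eq_one]; rfl
  have hord : orderOf (semiAut A σ) ≤ r * orderOf (piHom L) := by
    refine Nat.le_of_dvd (Nat.mul_pos hr1 (orderOf_pos _)) (orderOf_dvd_of_pow_eq_one ?_)
    rw [pow_mul, hpow, pow_orderOf_eq_one]
  rw [← geom_mul (by omega) n] at hc
  have hm : orderOf (piHom L) ≤ ∑ i ∈ Finset.range n, a ^ i := Nat.le_of_mul_le_mul_left hc (by omega)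
  have hineq := semi_ineq (r := r) ha2 hr1 hn (fun e => hne ⟨e.2.2, by rw [hqa, e.1, e.2.1]; norm_num⟩)
  rw [← hqa] at hineq
  rw [← geom_mul (Finite.card_pos) n]
  exact Nat.mul_le_mul_left _ ((hord.trans (Nat.mul_le_mul_left _ hm)).trans hineq)

theorem graph_bound (hn : 3 ≤ n) (hne : ¬ (n = 3 ∧ Nat.card F = 2)) (A : GL (Fin n) F) (σ : F ≃+* F) :
    (Nat.card F - 1) * orderOf (semiAut A σ * itAut) ≤ Nat.card F ^ n - 1 := by
  haveI : Finite (F ≃+* F) := Finite.of_injective (fun e : F ≃+* F => (e : F → F)) DFunLike.coe_injective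
  haveI : Fintype F := Fintype.ofFinite F
  set φ := semiAut A σ * itAut with hφ
  set A2 := A * Matrix.GeneralLinearGroup.map σ.toRingHom (itGL A) with hA2
  have hsq : φ ^ 2 = semiAut A2 (σ * σ) := by rw [sq]; exact gf_sq A σ
  by_cases hσ : σ * σ = 1
  · have hL : A * Matrix.GeneralLinearGroup.map σ.toRingHom (itGL A2) = A2 * A := by
      rw [hA2, itGL_mul', map_mul, ← map_itGL σ (itGL A), itGL_itGL', mul_assoc]
      congr 2
      refine Units.ext (Matrix.ext fun i j => ?_)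
      exact RingEquiv.congr_fun hσ _
    have ht := twisted A σ hn hne hσ A2 hL
    have hord : orderOf φ ≤ 2 * orderOf (piHom A2) := by
      refine Nat.le_of_dvd (Nat.mul_pos (by norm_num) (orderOf_pos _)) (orderOf_dvd_of_pow_eq_one ?_)
      rw [pow_mul, hsq, hσ]
      exact pow_orderOf_eq_one (piHom A2)
    calc (Nat.card F - 1) * orderOf φ ≤ (Nat.card F - 1) * (2 * orderOf (piHom A2)) := Nat.mul_le_mul_left _ hord
      _ = 2 * ((Nat.card F - 1) * orderOf (piHom A2)) := by ring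
      _ ≤ _ := ht
  set p := ringChar F
  haveI : Fact p.Prime := ⟨CharP.char_is_prime F p⟩
  obtain ⟨⟨f, hf⟩, hp, hF⟩ := FiniteField.card F p
  set r := orderOf (σ * σ) with hr
  have hr1 : 1 ≤ r := orderOf_pos _
  have hr2 : 2 ≤ r := by
    rcases Nat.eq_or_lt_of_le hr1 with e | e
    · exact absurd (orderOf_eq_one_iff.1 e.symm) hσ
    · exact e
  obtain ⟨hrf, hk⟩ := card_fixField (p := p) (f := f) hF (σ * σ) rfl hr1
  set a := Nat.card (fixField (σ * σ)) with ha
  have hqa : Nat.card F = a ^ r := by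
    rw [hk, ← pow_mul, Nat.div_mul_cancel hrf, Nat.card_eq_fintype_card]; exact hF
  have ha2 : 2 ≤ a := Finite.one_lt_card
  have hexc : ¬ (a = 2 ∧ r = 2) := by
    rintro ⟨e1, e2⟩
    have h4 : orderOf σ = 4 := by
      have : orderOf σ = 2 ^ (1 + 1) := orderOf_eq_prime_pow (by rw [pow_one, sq]; exact hσ) (by
        rw [show (2 : ℕ) ^ (1 + 1) = 2 * 2 by norm_num, pow_mul, sq σ]
        have := pow_orderOf_eq_one (σ * σ)
        rwa [← hr, e2] at this)
      simpa using this
    obtain ⟨h4f, hk4⟩ := card_fixField (p := p) (f := f) hF σ h4 (by norm_num)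
    have hq4 : p ^ f = 2 ^ 2 := by
      have hFn : Nat.card F = p ^ f := by rw [Nat.card_eq_fintype_card]; exact hF
      rw [← hFn, hqa, e1, e2]
    have h16 : 2 ^ 4 ≤ p ^ f := (Nat.pow_le_pow_left hp.two_le 4).trans
      (Nat.pow_le_pow_right hp.pos (Nat.le_of_dvd hf h4f))
    omega
  set L := semiPow A2 (σ * σ) r
  have hc := crude_charpoly (by omega) (σ * σ) L A2 (semiPow_comm A2 (σ * σ) (pow_orderOf_eq_one _))
  have hpow : semiAut A2 (σ * σ) ^ r = piHom L := by
    rw [semiAut_pow, pow_orderOf_eq_one]; rfl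
  have hord : orderOf φ ≤ 2 * r * orderOf (piHom L) := by
    refine Nat.le_of_dvd (Nat.mul_pos (by omega) (orderOf_pos _)) (orderOf_dvd_of_pow_eq_one ?_)
    rw [pow_mul, pow_mul, hsq, hpow, pow_orderOf_eq_one]
  rw [← geom_mul (by omega) n] at hc
  have hm : orderOf (piHom L) ≤ ∑ i ∈ Finset.range n, a ^ i := Nat.le_of_mul_le_mul_left hc (by omega)
  have hineq := graph_ineq (r := r) ha2 hr2 hexc hn
  rw [← hqa] at hineq
  rw [← geom_mul (Finite.card_pos) n]
  exact Nat.mul_le_mul_left _ ((hord.trans (Nat.mul_le_mul_left _ hm)).trans hineq)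

theorem itAut_two : ∃ J : GL (Fin 2) F, (itAut : MulAut (Matrix.ProjectiveSpecialLinearGroup (Fin 2) F)) =
    semiAut J (RingEquiv.refl F) := by
  let J : GL (Fin 2) F := ⟨!![0, 1; -1, 0], !![0, -1; 1, 0], by
    ext i j; fin_cases i <;> fin_cases j <;> simp [Matrix.mul_apply], by
    ext i j; fin_cases i <;> fin_cases j <;> simp [Matrix.mul_apply]⟩
  refine ⟨J, MulEquiv.ext fun x => ?_⟩
  induction x using QuotientGroup.induction_on with
  | _ s =>
    show QuotientGroup.mk (itFun s) = semiAut J _ (QuotientGroup.mk s)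
    rw [semiAut_mk]
    congr 1
    refine Subtype.ext ?_
    rw [semiSL_coe]
    show (((s⁻¹ : Matrix.SpecialLinearGroup (Fin 2) F) : Matrix (Fin 2) (Fin 2) F)).transpose = _
    rw [Matrix.SpecialLinearGroup.coe_inv, Matrix.adjugate_fin_two]
    ext i j
    fin_cases i <;> fin_cases j <;> simp [Matrix.mul_apply, Matrix.vecMul, dotProduct, Fin.sum_univ_two, J]

theorem aut_bound (hn : 2 ≤ n) (h2 : ¬ (n = 2 ∧ Nat.card F = 4)) (h3 : ¬ (n = 3 ∧ Nat.card F = 2))
    (φ : MulAut PSLn) : (Nat.card F - 1) * orderOf φ ≤ Nat.card F ^ n - 1 := by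
  obtain ⟨A, σ, rfl | rfl⟩ := exists_semi hn φ
  · exact semi_bound hn h2 A σ
  · rcases Nat.eq_or_lt_of_le hn with e | e
    · subst e
      obtain ⟨J, hJ⟩ := itAut_two (F := F)
      rw [hJ, semiAut_mul]
      exact semi_bound hn h2 _ _
    · exact graph_bound e h3 A σ

theorem orderOf_piHom (hn : 2 ≤ n) (g : GL (Fin n) F) :
    orderOf (piHom g) = orderOf (QuotientGroup.mk g : GL (Fin n) F ⧸ Subgroup.center (GL (Fin n) F)) := by
  refine orderOf_eq_orderOf_iff.2 fun k => ?_
  rw [← map_pow, ← QuotientGroup.mk_pow, QuotientGroup.eq_one_iff,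
    Matrix.GeneralLinearGroup.center_eq_range_scalar]
  constructor
  · intro h
    obtain ⟨-, c, hc⟩ := semi_eq_one hn h
    refine ⟨c, Units.ext ?_⟩
    rw [hc, ← scl_coe]
    rfl
  · rintro ⟨c, hc⟩
    rw [← hc]
    exact (congrArg piHom (Units.ext rfl)).trans (piHom_scl c)

theorem exists_max (hn : 2 ≤ n) : ∃ φ : MulAut PSLn,
    (Nat.card F - 1) * orderOf φ = Nat.card F ^ n - 1 := by
  haveI : Fintype F := Fintype.ofFinite F
  obtain ⟨x, hx⟩ := (Cfsg.Agent.S2261.result (F := F) n (by omega)).2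
  obtain ⟨g, rfl⟩ := QuotientGroup.mk_surjective x
  refine ⟨piHom g, ?_⟩
  rw [orderOf_piHom hn, Nat.card_eq_fintype_card]
  exact hx

end CfsgLib.KnownC.AutPSL.MaxOrd
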