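import Cfsg.Agent.Lib.KnownC.AutPSL.MaxOrd.Ineq
import Mathlib

set_option autoImplicit false
set_option linter.unusedSectionVars false

/-! Counting polynomials with prescribed non-vanishing. -/

namespace CfsgLib.KnownC.AutPSL.MaxOrd

variable {F : Type*} [Field F] [Finite F] {n : ℕ}

/-- Evaluation of a coefficient vector. -/
def evalVec (f : Fin n → F) (a : F) : F := ∑ i, f i * a ^ (i : ℕ)

theorem evalVec_eq (f : Fin n → F) (a : F) :
    evalVec f a = (∑ i, Polynomial.C (f i) * Polynomial.X ^ (i : ℕ)).eval a := by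
  simp [evalVec, Polynomial.eval_finsetSum]

/-- The evaluation map on a finite set of points. -/
def evalHom (s : Finset F) : (Fin n → F) →+ (s → F) where
  toFun f a := evalVec f a
  map_zero' := by funext a; simp [evalVec]
  map_add' f g := by funext a; simp [evalVec, add_mul, Finset.sum_add_distrib]

theorem evalHom_surjective (s : Finset F) (hs : s.card ≤ n) : Function.Surjective (evalHom (n := n) s) := by
  classical
  intro t
  set p := Lagrange.interpolate s id (fun a => if h : a ∈ s then t ⟨a, h⟩ else 0) with hp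
  refine ⟨fun i => p.coeff i, funext fun a => ?_⟩
  have h1 := Lagrange.eval_interpolate_at_node (fun a => if h : a ∈ s then t ⟨a, h⟩ else 0)
    (Set.injOn_id (s : Set F)) a.2
  rw [← hp, id, dif_pos a.2] at h1
  show evalVec (fun i => p.coeff i) a = t a
  rw [← h1]
  rcases eq_or_ne p 0 with h0 | h0
  · simp [h0, evalVec]
  have hlt : p.natDegree < n := by
    refine (Polynomial.natDegree_lt_iff_degree_lt h0).2 ((Lagrange.degree_interpolate_lt _
      (Set.injOn_id (s : Set F))).trans_le ?_)
    exact_mod_cast hs
  rw [Polynomial.eval_eq_sum_range' hlt, evalVec, Finset.sum_range]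

theorem card_nonvanishing (s : Finset F) (hs : s.card ≤ n) :
    Nat.card {f : Fin n → F // ∀ a ∈ s, evalVec f a ≠ 0} * Nat.card F ^ s.card =
      Nat.card F ^ n * (Nat.card F - 1) ^ s.card := by
  classical
  set e := evalHom (n := n) s
  have hsurj := evalHom_surjective s hs
  let g : (s → F) → (Fin n → F) := Function.surjInv hsurj
  have hg : ∀ t, e (g t) = t := Function.surjInv_eq hsurj
  let E : (Fin n → F) ≃ e.ker × (s → F) :=
    { toFun := fun f => (⟨f - g (e f), by rw [AddMonoidHom.mem_ker, map_sub, hg, sub_self]⟩, e f)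
      invFun := fun p => (p.1 : Fin n → F) + g p.2
      left_inv := fun f => sub_add_cancel f _
      right_inv := fun p => by
        obtain ⟨⟨k, hk⟩, t⟩ := p
        have : e (k + g t) = t := by rw [map_add, hg, AddMonoidHom.mem_ker.1 hk, zero_add]
        refine Prod.ext (Subtype.ext ?_) this
        show k + g t - g (e (k + g t)) = k
        rw [this, add_sub_cancel_right] }
  have hT : Nat.card {t : s → F // ∀ a, t a ≠ 0} = (Nat.card F - 1) ^ s.card := by
    rw [Nat.card_congr (Equiv.subtypePiEquivPi (p := fun (_ : s) (x : F) => x ≠ 0)), Nat.card_pi,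
      Finset.prod_const, Finset.card_univ, Fintype.card_coe, ← Nat.card_units F]
    exact congrArg (· ^ s.card) (Nat.card_congr unitsEquivNeZero.symm)
  have h1 : Nat.card {f : Fin n → F // ∀ a ∈ s, evalVec f a ≠ 0} =
      Nat.card e.ker * (Nat.card F - 1) ^ s.card := by
    rw [← hT, ← Nat.card_prod]
    refine Nat.card_congr ?_
    refine (Equiv.subtypeEquiv E (q := fun p => ∀ a, p.2 a ≠ 0) fun f => ?_).trans ?_
    · exact ⟨fun h a => h a.1 a.2, fun h a ha => h ⟨a, ha⟩⟩
    · exact { toFun := fun p => (p.1.1, ⟨p.1.2, p.2⟩), invFun := fun p => ⟨(p.1, p.2.1), p.2.2⟩,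
              left_inv := fun _ => rfl, right_inv := fun _ => rfl }
  have h2 : Nat.card F ^ n = Nat.card e.ker * Nat.card F ^ s.card := by
    have := Nat.card_congr E
    rwa [Nat.card_fun, Nat.card_fin, Nat.card_prod, Nat.card_fun, Nat.card_eq_fintype_card (α := s),
      Fintype.card_coe] at this
  rw [h1, h2]
  ring

end CfsgLib.KnownC.AutPSL.MaxOrd
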