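import Mathlib

set_option autoImplicit false

/-! Arithmetic for the maximal element order of `Aut PSL_d(q)`. -/

namespace CfsgLib.KnownC.AutPSL.MaxOrd

open Finset

theorem geom_mul {q : ℕ} (hq : 1 ≤ q) (d : ℕ) : (q - 1) * ∑ i ∈ range d, q ^ i = q ^ d - 1 := by
  induction d with
  | zero => simp
  | succ d ih =>
    rw [Finset.sum_range_succ, Nat.mul_add, ih, pow_succ, Nat.sub_mul, one_mul, mul_comm (q ^ d) q]
    have h1 : 1 ≤ q ^ d := Nat.one_le_pow _ _ hq
    have h2 : q ^ d ≤ q * q ^ d := Nat.le_mul_of_pos_left _ hq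
    omega

theorem two_mul_le_four_pow {r : ℕ} (hr : 2 ≤ r) : 2 * r ≤ 4 ^ (r - 1) := by
  induction r, hr using Nat.le_induction with
  | base => norm_num
  | succ k hk ih =>
    obtain ⟨j, rfl⟩ : ∃ j, k = j + 1 := ⟨k - 1, by omega⟩
    simp only [Nat.add_sub_cancel] at ih ⊢
    rw [pow_succ]
    omega

theorem term_le {a r : ℕ} (ha : 2 ≤ a) (hr : 2 ≤ r) {i : ℕ} (hi : 2 ≤ i) :
    2 * r * a ^ i ≤ (a ^ r) ^ i := by
  have h1 : (a ^ r) ^ i = a ^ ((r - 1) * i) * a ^ i := by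
    rw [← pow_mul, ← pow_add]
    congr 1
    obtain ⟨j, rfl⟩ : ∃ j, r = j + 1 := ⟨r - 1, by omega⟩
    simp [Nat.add_mul]
  rw [h1]
  refine Nat.mul_le_mul_right _ ((two_mul_le_four_pow hr).trans ?_)
  calc 4 ^ (r - 1) = 2 ^ (2 * (r - 1)) := by rw [pow_mul]; norm_num
    _ ≤ 2 ^ ((r - 1) * i) := Nat.pow_le_pow_right (by norm_num) (by rw [mul_comm]; exact Nat.mul_le_mul_left _ hi)
    _ ≤ a ^ ((r - 1) * i) := Nat.pow_le_pow_left ha _

theorem semi_two {a r : ℕ} (ha : 2 ≤ a) (hr : 2 ≤ r) (hne : ¬ (a = 2 ∧ r = 2)) :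
    r * (1 + a) ≤ 1 + a ^ r := by
  rcases Nat.eq_or_lt_of_le hr with h | h
  · subst h
    have : 3 ≤ a := by omega
    nlinarith
  · have h3 : ∀ k, 3 ≤ k → a * k + k ≤ 1 + a ^ k := by
      intro k hk
      induction k, hk using Nat.le_induction with
      | base =>
        have : 4 * a ≤ a ^ 3 := by
          calc 4 * a ≤ (a * a) * a := Nat.mul_le_mul_right _ (Nat.mul_le_mul ha ha)
            _ = a ^ 3 := by ring
        omega
      | succ k hk ih =>
        have h4 : 2 * a ^ k ≤ a ^ (k + 1) := by rw [pow_succ, mul_comm]; exact Nat.mul_le_mul_left _ ha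
        have h5 : a + 1 ≤ a ^ k := by
          calc a + 1 ≤ a * a := by nlinarith
            _ = a ^ 2 := by ring
            _ ≤ a ^ k := Nat.pow_le_pow_right (by omega) (by omega)
        rw [mul_add, mul_one]
        omega
    have := h3 r h
    rw [mul_add, mul_one, mul_comm r a]
    omega

theorem semi_ineq {a r : ℕ} (ha : 2 ≤ a) (hr : 1 ≤ r) : ∀ {d : ℕ}, 2 ≤ d → ¬ (a = 2 ∧ r = 2 ∧ d = 2) →
    r * ∑ i ∈ range d, a ^ i ≤ ∑ i ∈ range d, (a ^ r) ^ i := by
  rcases Nat.eq_or_lt_of_le hr with h | h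
  · subst h; intro d _ _; simp
  intro d hd
  induction d, hd using Nat.le_induction with
  | base =>
    intro hne
    simp only [Finset.sum_range_succ, Finset.sum_range_zero, pow_zero, pow_one, zero_add]
    exact semi_two ha h (fun e => hne ⟨e.1, e.2, rfl⟩)
  | succ k hk ih =>
    intro _
    by_cases hc : a = 2 ∧ r = 2 ∧ k = 2
    · obtain ⟨rfl, rfl, rfl⟩ := hc
      decide
    · rw [Finset.sum_range_succ, Finset.sum_range_succ _ k, mul_add]
      have := term_le ha h hk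
      have h2 : r * a ^ k ≤ 2 * r * a ^ k := Nat.mul_le_mul_right _ (by omega)
      exact Nat.add_le_add (ih hc) (h2.trans this)

theorem graph_ineq {a r : ℕ} (ha : 2 ≤ a) (hr : 2 ≤ r) (hne : ¬ (a = 2 ∧ r = 2)) : ∀ {d : ℕ}, 3 ≤ d →
    2 * r * ∑ i ∈ range d, a ^ i ≤ ∑ i ∈ range d, (a ^ r) ^ i := by
  intro d hd
  induction d, hd using Nat.le_induction with
  | base =>
    simp only [Finset.sum_range_succ, Finset.sum_range_zero, pow_zero, pow_one, zero_add]
    rcases Nat.eq_or_lt_of_le hr with h | h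
    · subst h
      have h3 : 3 ≤ a := by omega
      have : 9 * a ^ 2 ≤ (a ^ 2) ^ 2 := by
        calc 9 * a ^ 2 ≤ a ^ 2 * a ^ 2 := Nat.mul_le_mul_right _ (by nlinarith)
          _ = (a ^ 2) ^ 2 := by ring
      nlinarith
    · have key : ∀ k, 3 ≤ k → 4 * k ≤ 4 ^ (k - 1) := by
        intro k hk
        induction k, hk using Nat.le_induction with
        | base => norm_num
        | succ k hk ih =>
          obtain ⟨j, rfl⟩ : ∃ j, k = j + 1 := ⟨k - 1, by omega⟩
          simp only [Nat.add_sub_cancel] at ih ⊢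
          rw [pow_succ]; omega
      have h1 : 1 + a + a ^ 2 ≤ 2 * a ^ 2 := by nlinarith
      have h2 : (a ^ r) ^ 2 = a ^ (2 * (r - 1)) * a ^ 2 := by
        rw [← pow_mul, ← pow_add]; congr 1; omega
      have h4 : 4 * r ≤ a ^ (2 * (r - 1)) := by
        refine (key r h).trans ?_
        rw [pow_mul]
        exact Nat.pow_le_pow_left (by nlinarith) _
      calc 2 * r * (1 + a + a ^ 2) ≤ 2 * r * (2 * a ^ 2) := Nat.mul_le_mul_left _ h1
        _ = 4 * r * a ^ 2 := by ring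
        _ ≤ (a ^ r) ^ 2 := by rw [h2]; exact Nat.mul_le_mul_right _ h4
        _ ≤ 1 + a ^ r + (a ^ r) ^ 2 := Nat.le_add_left _ _
  | succ k hk ih =>
    rw [Finset.sum_range_succ, Finset.sum_range_succ _ k, mul_add]
    exact Nat.add_le_add ih (term_le ha hr (by omega))

theorem bern {x : ℕ} (hx : 2 ≤ x) : 2 * x ^ x < (x + 1) ^ x := by
  have key : ∀ k, 1 ≤ k → x ^ (k + 1) + (k + 1) * x ^ k < (x + 1) ^ (k + 1) := by
    intro k hk
    induction k, hk using Nat.le_induction with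
    | base => ring_nf; omega
    | succ k hk ih =>
      have h0 : (x + 1) * (x ^ (k + 1) + (k + 1) * x ^ k) ≤ (x + 1) * (x + 1) ^ (k + 1) :=
        Nat.mul_le_mul_left _ ih.le
      have h1 : 0 < (k + 1) * x ^ k := Nat.mul_pos (by omega) (pow_pos (by omega) _)
      calc x ^ (k + 1 + 1) + (k + 1 + 1) * x ^ (k + 1)
          < x ^ (k + 1 + 1) + (k + 1 + 1) * x ^ (k + 1) + (k + 1) * x ^ k := by omega
        _ = (x + 1) * (x ^ (k + 1) + (k + 1) * x ^ k) := by ring
        _ ≤ (x + 1) * (x + 1) ^ (k + 1) := h0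
        _ = (x + 1) ^ (k + 1 + 1) := by ring
  obtain ⟨k, rfl⟩ : ∃ k, x = k + 1 := ⟨x - 1, by omega⟩
  have := key k (by omega)
  have h2 : (k + 1) ^ (k + 1) = (k + 1) * (k + 1) ^ k := by ring
  omega

end CfsgLib.KnownC.AutPSL.MaxOrd
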