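import Cfsg.Agent.Lib.KnownC.AutPSL.MaxOrd.Units
import Cfsg.Agent.Lib.KnownC.AutPSL.MaxOrd.Count
import Mathlib

set_option autoImplicit false
set_option linter.unusedSectionVars false

/-! The index two trick for squares of graph automorphisms. -/

namespace CfsgLib.KnownC.AutPSL.MaxOrd

open Matrix Polynomial CfsgLib.KnownC.AutPSL

variable {F : Type*} [Field F] [Finite F] {n : ℕ}

local notation "Mat" => Matrix (Fin n) (Fin n) F

/-- The anti-automorphism of the matrix algebra attached to `A` and `σ`. -/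
noncomputable def iota (A : GL (Fin n) F) (σ : F ≃+* F) (b : Mat) : Mat :=
  ((((A⁻¹ : GL (Fin n) F) : Mat) * b * (A : Mat)).map σ).transpose

variable (A : GL (Fin n) F) (σ : F ≃+* F)

theorem iota_mul (x y : Mat) : iota A σ (x * y) = iota A σ y * iota A σ x := by
  show ((((A⁻¹ : GL (Fin n) F) : Mat) * (x * y) * (A : Mat)).map σ.toRingHom).transpose =
    ((((A⁻¹ : GL (Fin n) F) : Mat) * y * (A : Mat)).map σ.toRingHom).transpose *
    ((((A⁻¹ : GL (Fin n) F) : Mat) * x * (A : Mat)).map σ.toRingHom).transpose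
  rw [← Matrix.transpose_mul, ← Matrix.map_mul]
  congr 2
  simp [mul_assoc]

theorem iota_add (x y : Mat) : iota A σ (x + y) = iota A σ x + iota A σ y := by
  unfold iota
  rw [mul_add, add_mul, Matrix.map_add _ (fun a b => map_add σ a b), Matrix.transpose_add]

theorem iota_smul_one (c : F) : iota A σ (c • (1 : Mat)) = σ c • (1 : Mat) := by
  unfold iota
  rw [Matrix.mul_smul, mul_one, Matrix.smul_mul, Units.inv_mul]
  ext i j
  rcases eq_or_ne i j with h | h
  · subst h; simp
  · simp [Matrix.one_apply_ne h, Matrix.one_apply_ne h.symm]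

theorem iota_one : iota A σ (1 : Mat) = 1 := by
  have := iota_smul_one A σ (1 : F)
  rwa [one_smul, map_one, one_smul] at this

theorem iota_self (hσ : σ * σ = 1) (L : GL (Fin n) F)
    (h : A * Matrix.GeneralLinearGroup.map σ.toRingHom (itGL L) = L * A) :
    iota A σ (L : Mat) = ((L⁻¹ : GL (Fin n) F) : Mat) := by
  have h2 : ((A⁻¹ : GL (Fin n) F) : Mat) * (L : Mat) * (A : Mat) =
      (((L⁻¹ : GL (Fin n) F) : Mat).transpose).map σ := by
    rw [mul_assoc, ← Units.val_mul L A, ← h, Units.val_mul, ← mul_assoc, Units.inv_mul, one_mul]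
    rfl
  unfold iota
  rw [h2]
  ext i j
  simp only [Matrix.transpose_apply, Matrix.map_apply]
  exact RingEquiv.congr_fun hσ _

/-- The units of `F[g]` with scalar twisted norm. -/
def normScalar (g : GL (Fin n) F) : Subgroup (GL (Fin n) F) where
  carrier := {x | (x : Mat) ∈ Algebra.adjoin F {(g : Mat)} ∧ ∃ c : F, (x : Mat) * iota A σ x = c • (1 : Mat)}
  one_mem' := ⟨one_mem (Algebra.adjoin F {(g : Mat)}), 1, by rw [one_smul, Units.val_one, iota_one, one_mul]⟩
  mul_mem' {a b} ha hb := by
    obtain ⟨ha1, c, hc⟩ := ha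
    obtain ⟨hb1, d, hd⟩ := hb
    refine ⟨mul_mem (s := Algebra.adjoin F {(g : Mat)}) ha1 hb1, d * c, ?_⟩
    rw [Units.val_mul, iota_mul, mul_assoc, ← mul_assoc (b : Mat), hd, smul_mul_assoc, one_mul, mul_smul_comm, hc,
      smul_smul]
  inv_mem' {x} hx := by
    classical
    have h : x⁻¹ ∈ Submonoid.powers x := by
      rw [mem_powers_iff_mem_zpowers]; exact inv_mem (Subgroup.mem_zpowers x)
    obtain ⟨k, hk⟩ := h
    rw [← hk]
    beta_reduce
    obtain ⟨hx1, c, hc⟩ := hx
    clear hk
    induction k with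
    | zero => exact ⟨one_mem (Algebra.adjoin F {(g : Mat)}), 1, by
        rw [pow_zero, one_smul, Units.val_one, iota_one, one_mul]⟩
    | succ k ih =>
      obtain ⟨hk1, d, hd⟩ := ih
      refine ⟨?_, c * d, ?_⟩
      · rw [pow_succ, Units.val_mul]; exact mul_mem hk1 hx1
      · rw [pow_succ, Units.val_mul, iota_mul, mul_assoc, ← mul_assoc (x : Mat), hc, smul_mul_assoc, one_mul,
          mul_smul_comm, hd, smul_smul]

theorem normScalar_le (g : GL (Fin n) F) : normScalar A σ g ≤ unitsK F g := fun _ hx => hx.1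

/-- If some unit of `F[L]` has non-scalar norm, the twisted bound holds. -/
theorem bound_of_witness (hn : 1 ≤ n) (hσ : σ * σ = 1) (L : GL (Fin n) F)
    (h : A * Matrix.GeneralLinearGroup.map σ.toRingHom (itGL L) = L * A)
    (v : Mat) (hv : v ∈ Algebra.adjoin F {(L : Mat)}) (hdet : v.det ≠ 0)
    (hns : ∀ c : F, v * iota A σ v ≠ c • (1 : Mat)) :
    2 * ((Nat.card F - 1) * orderOf (piHom L)) ≤ Nat.card F ^ n - 1 := by
  classical
  set u : GL (Fin n) F := Matrix.GeneralLinearGroup.mkOfDetNeZero v hdet with hu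
  have hvu : (u : Mat) = v := rfl
  have h1 := order_le_of_subgroup (K := F) hn L (normScalar A σ L)
    ⟨Algebra.self_mem_adjoin_singleton F _, 1, by rw [iota_self A σ hσ L h, Units.mul_inv, one_smul]⟩
    (fun c => by
      refine ⟨scl_mem_unitsK F L c, (c : F) * σ (c : F), ?_⟩
      show ((scl (Units.map (algebraMap F F).toMonoidHom c) : GL (Fin n) F) : Mat) * iota A σ _ = _
      rw [scl_coe]
      show ((c : F) • (1 : Mat)) * iota A σ ((c : F) • (1 : Mat)) = _
      rw [iota_smul_one, smul_mul_assoc, one_mul, smul_smul])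
  have h2 : ((normScalar A σ L).relIndex (unitsK F L)) ≠ 1 := fun e => by
    have hm : u ∈ unitsK F L := by rw [mem_unitsK, hvu]; exact hv
    obtain ⟨-, c, hc⟩ := Subgroup.relIndex_eq_one.1 e hm
    exact hns c (hvu ▸ hc)
  have h3 : Nat.card (normScalar A σ L) * (normScalar A σ L).relIndex (unitsK F L) = Nat.card (unitsK F L) := by
    rw [← Subgroup.relIndex_bot_left (normScalar A σ L),
      Subgroup.relIndex_mul_relIndex _ _ _ bot_le (normScalar_le A σ L), Subgroup.relIndex_bot_left]
  have h4 : (normScalar A σ L).relIndex (unitsK F L) ≠ 0 := fun e => by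
    rw [e, mul_zero] at h3
    exact Nat.card_pos.ne h3
  have h5 : Nat.card (unitsK F L) + 1 ≤ Nat.card F ^ n :=
    card_unitsK L (Matrix.charpoly_monic (L : Mat))
      (by rw [Matrix.charpoly_natDegree_eq_dim, Fintype.card_fin]) (Matrix.aeval_self_charpoly _) hn
  have h6 : Nat.card (normScalar A σ L) * 2 ≤ Nat.card (unitsK F L) := by
    rw [← h3]; exact Nat.mul_le_mul_left _ (by omega)
  omega

theorem adjoin_det_zero (L : GL (Fin n) F) {a : F} (ha : ((L : Mat) - a • 1).det = 0) (f : Fin n → F)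
    (hf : evalVec f a = 0) : (∑ i, f i • (L : Mat) ^ (i : ℕ)).det = 0 := by
  set p : F[X] := ∑ i, Polynomial.C (f i) * Polynomial.X ^ (i : ℕ) with hp
  have hroot : p.IsRoot a := by rw [Polynomial.IsRoot, hp, ← evalVec_eq, hf]
  obtain ⟨r, hr⟩ := Polynomial.dvd_iff_isRoot.2 hroot
  have h1 : Polynomial.aeval (L : Mat) p = ∑ i, f i • (L : Mat) ^ (i : ℕ) := by
    simp [hp, Algebra.smul_def]
  have h2 : Polynomial.aeval (L : Mat) (Polynomial.X - Polynomial.C a) = (L : Mat) - a • 1 := by
    simp [Algebra.algebraMap_eq_smul_one]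
  rw [← h1, hr, map_mul, Matrix.det_mul, h2, ha, zero_mul]

theorem isRoot_charpoly (L : GL (Fin n) F) {a : F} (ha : ((L : Mat) - a • 1).det = 0) :
    (L : Mat).charpoly.IsRoot a := by
  rw [Polynomial.IsRoot, Matrix.eval_charpoly]
  have : Matrix.scalar (Fin n) a - (L : Mat) = -((L : Mat) - a • 1) := by
    rw [neg_sub]; congr 1
    ext i j
    rcases eq_or_ne i j with h | h
    · subst h; simp
    · simp [Matrix.diagonal_apply_ne _ h, Matrix.one_apply_ne h]
  rw [this, Matrix.det_neg, ha, mul_zero]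

/-- Many eigenvalues in the field: few units. -/
theorem bound_of_eigen (hn : 1 ≤ n) (hq : 3 ≤ Nat.card F) (L : GL (Fin n) F)
    (hall : ∀ a : F, a ≠ 0 → ((L : Mat) - a • 1).det = 0) :
    2 * ((Nat.card F - 1) * orderOf (piHom L)) ≤ Nat.card F ^ n - 1 := by
  classical
  haveI : Fintype F := Fintype.ofFinite F
  haveI : Nonempty (Fin n) := ⟨⟨0, hn⟩⟩
  set s : Finset F := Finset.univ.erase 0 with hs
  have hsc : s.card = Nat.card F - 1 := by
    rw [hs, Finset.card_erase_of_mem (Finset.mem_univ _), Finset.card_univ, Nat.card_eq_fintype_card]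
  have hne : (L : Mat).charpoly ≠ 0 := (Matrix.charpoly_monic _).ne_zero
  have hsn : s.card ≤ n := by
    have hsub : s ⊆ (L : Mat).charpoly.roots.toFinset := fun a ha => by
      rw [Multiset.mem_toFinset, Polynomial.mem_roots hne]
      exact isRoot_charpoly L (hall a (Finset.ne_of_mem_erase ha))
    refine (Finset.card_le_card hsub).trans ((Multiset.toFinset_card_le _).trans
      ((Polynomial.card_roots' _).trans_eq ?_))
    rw [Matrix.charpoly_natDegree_eq_dim, Fintype.card_fin]
  choose f hf using fun x : unitsK F L => exists_coeffs L (Matrix.charpoly_monic (L : Mat))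
    (by rw [Matrix.charpoly_natDegree_eq_dim, Fintype.card_fin]) (Matrix.aeval_self_charpoly _) _ x.2
  have hmem : ∀ x, ∀ a ∈ s, evalVec (f x) a ≠ 0 := fun x a ha h0 => by
    have h := adjoin_det_zero L (hall a (Finset.ne_of_mem_erase ha)) (f x) h0
    rw [hf x] at h
    exact ((Matrix.isUnit_iff_isUnit_det _).1 ⟨_, rfl⟩).ne_zero h
  let j : unitsK F L → {g : Fin n → F // ∀ a ∈ s, evalVec g a ≠ 0} := fun x => ⟨f x, hmem x⟩
  have hj : Function.Injective j := fun x y h => Subtype.ext (Units.ext (by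
    rw [← hf x, ← hf y, show f x = f y from congrArg Subtype.val h]))
  have hle := Nat.card_le_card_of_injective j hj
  have hc := card_nonvanishing (n := n) s hsn
  have h1 := order_le_of_subgroup (K := F) hn L (unitsK F L) (self_mem_unitsK F L) (scl_mem_unitsK F L)
  rw [hsc] at hc
  obtain ⟨x, hx⟩ : ∃ x, Nat.card F = x + 1 := ⟨Nat.card F - 1, by omega⟩
  rw [hx, Nat.add_sub_cancel] at hc h1 ⊢
  set S := Nat.card {g : Fin n → F // ∀ a ∈ s, evalVec g a ≠ 0}
  have hb := bern (x := x) (by omega)
  have hP : 0 < (x + 1) ^ n := pow_pos (by omega) _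
  have h6 : 2 * S * (x + 1) ^ x < (x + 1) ^ n * (x + 1) ^ x := by
    rw [mul_assoc, hc, ← mul_assoc, mul_comm 2, mul_assoc]
    exact Nat.mul_lt_mul_of_pos_left hb hP
  have h7 := Nat.lt_of_mul_lt_mul_right h6
  omega

theorem norm_add_scalar (hσ : σ * σ = 1) (L : GL (Fin n) F)
    (h : A * Matrix.GeneralLinearGroup.map σ.toRingHom (itGL L) = L * A) (c e : F)
    (he : ((L : Mat) + c • 1) * iota A σ ((L : Mat) + c • 1) = e • (1 : Mat)) :
    Polynomial.aeval (L : Mat)
      (Polynomial.C (σ c) * Polynomial.X ^ 2 + Polynomial.C (1 + c * σ c - e) * Polynomial.X + Polynomial.C c) = 0 := by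
  rw [iota_add, iota_smul_one, iota_self A σ hσ L h] at he
  have h2 := congrArg (fun M => M * (L : Mat)) he
  simp only [add_mul, mul_add, smul_mul_assoc, mul_smul_comm, one_mul, mul_one, smul_smul, Units.mul_inv,
    Units.inv_mul, smul_add] at h2
  have h3 : Polynomial.aeval (L : Mat)
      (Polynomial.C (σ c) * Polynomial.X ^ 2 + Polynomial.C (1 + c * σ c - e) * Polynomial.X + Polynomial.C c) =
      σ c • ((L : Mat) * L) + (1 + c * σ c - e) • (L : Mat) + c • (1 : Mat) := by
    simp [sq, Algebra.smul_def]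
  rw [h3]
  linear_combination (norm := module) h2

/-- A polynomial of small degree killing `L` gives the bound. -/
theorem bound_of_small (hn : 3 ≤ n) (L : GL (Fin n) F) {p : F[X]} (hp : p ≠ 0) (hd : p.natDegree ≤ 2)
    (h0 : Polynomial.aeval (L : Mat) p = 0) :
    2 * ((Nat.card F - 1) * orderOf (piHom L)) ≤ Nat.card F ^ n - 1 := by
  have hm := Polynomial.monic_mul_leadingCoeff_inv hp
  have h1 := crude (K := F) (by omega) L (e := p.natDegree) hm
    (Polynomial.natDegree_mul_leadingCoeff_inv p hp) (by rw [map_mul, h0, zero_mul])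
  have hq : 2 ≤ Nat.card F := Finite.one_lt_card
  have h2 : Nat.card F ^ p.natDegree ≤ Nat.card F ^ 2 := Nat.pow_le_pow_right (by omega) hd
  have h3 : Nat.card F ^ 3 ≤ Nat.card F ^ n := Nat.pow_le_pow_right (by omega) hn
  have h4 : 2 * Nat.card F ^ 2 ≤ Nat.card F ^ 3 := by
    rw [pow_succ' (Nat.card F) 2]; exact Nat.mul_le_mul_right _ hq
  have h5 : 0 < Nat.card F ^ p.natDegree := pow_pos (by omega) _
  omega

theorem two_case (hn : 4 ≤ n) (hσ : σ * σ = 1) (hq : Nat.card F = 2) (L : GL (Fin n) F)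
    (h : A * Matrix.GeneralLinearGroup.map σ.toRingHom (itGL L) = L * A)
    (h1 : ((L : Mat) - (1 : F) • 1).det = 0) :
    2 * ((Nat.card F - 1) * orderOf (piHom L)) ≤ Nat.card F ^ n - 1 := by
  classical
  haveI : Fintype F := Fintype.ofFinite F
  haveI : Nonempty (Fin n) := ⟨⟨0, by omega⟩⟩
  have hall : ∀ c : F, c = 0 ∨ c = 1 := by
    intro c
    by_contra hc
    push Not at hc
    have h3 : ({0, 1, c} : Finset F).card ≤ Fintype.card F := Finset.card_le_univ _
    rw [Finset.card_insert_of_notMem (by simp [hc.1.symm]), Finset.card_pair hc.2.symm,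
      ← Nat.card_eq_fintype_card, hq] at h3
    omega
  have h11 : (1 : F) + 1 = 0 := by
    rcases hall (1 + 1) with e | e
    · exact e
    · exact absurd (left_eq_add.1 e.symm) one_ne_zero
  have h2x : ∀ M : Mat, M + M = 0 := fun M => by rw [← one_smul F M, ← add_smul, h11, zero_smul]
  set v : Mat := (L : Mat) * L + L + 1 with hv
  have hvmem : v ∈ Algebra.adjoin F {(L : Mat)} :=
    add_mem (add_mem (mul_mem (Algebra.self_mem_adjoin_singleton F _) (Algebra.self_mem_adjoin_singleton F _))
      (Algebra.self_mem_adjoin_singleton F _)) (one_mem _)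
  by_cases hdet : v.det = 0
  · -- a non-unit with value one at one
    choose f hf using fun x : unitsK F L => exists_coeffs L (Matrix.charpoly_monic (L : Mat))
      (by rw [Matrix.charpoly_natDegree_eq_dim, Fintype.card_fin]) (Matrix.aeval_self_charpoly _) _ x.2
    have hmem : ∀ x, ∀ a ∈ ({1} : Finset F), evalVec (f x) a ≠ 0 := fun x a ha h0 => by
      rw [Finset.mem_singleton] at ha
      subst ha
      have h' := adjoin_det_zero L h1 (f x) h0
      rw [hf x] at h'
      exact ((Matrix.isUnit_iff_isUnit_det _).1 ⟨_, rfl⟩).ne_zero h'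
    let g0 : Fin n → F := fun i => if (i : ℕ) ≤ 2 then 1 else 0
    have hsum : ∀ (M : Type _) [AddCommMonoid M] (φ : ℕ → M), (∀ i, 2 < i → φ i = 0) →
        ∑ i : Fin n, φ i = φ 0 + φ 1 + φ 2 := by
      intro M _ φ hφ
      rw [← Finset.sum_range]
      rw [← Finset.sum_subset (Finset.range_mono (show 3 ≤ n by omega)) (fun i _ hi => hφ i (by
        rw [Finset.mem_range] at hi; omega))]
      simp [Finset.sum_range_succ]
    have hg0 : ∀ a ∈ ({1} : Finset F), evalVec g0 a ≠ 0 := fun a ha => by
      rw [Finset.mem_singleton] at ha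
      subst ha
      rw [evalVec, hsum F (fun i => (if i ≤ 2 then 1 else 0) * (1 : F) ^ i) (fun i hi => by simp [show ¬ i ≤ 2 by omega])]
      simp [h11]
    let j : unitsK F L → {g : Fin n → F // ∀ a ∈ ({1} : Finset F), evalVec g a ≠ 0} := fun x => ⟨f x, hmem x⟩
    have hj : Function.Injective j := fun x y h => Subtype.ext (Units.ext (by
      rw [← hf x, ← hf y, show f x = f y from congrArg Subtype.val h]))
    have hns : ¬ Function.Surjective j := fun hs => by
      obtain ⟨x, hx⟩ := hs ⟨g0, hg0⟩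
      have h' := hf x
      rw [show f x = g0 from congrArg Subtype.val hx,
        hsum Mat (fun i => (if i ≤ 2 then (1 : F) else 0) • (L : Mat) ^ i)
          (fun i hi => by simp [show ¬ i ≤ 2 by omega])] at h'
      simp [sq] at h'
      refine ((Matrix.isUnit_iff_isUnit_det _).1 ⟨(x : GL (Fin n) F), rfl⟩).ne_zero ?_
      rw [← h', ← hdet, hv]
      congr 1
      abel
    have hlt : Nat.card (unitsK F L) < Nat.card {g : Fin n → F // ∀ a ∈ ({1} : Finset F), evalVec g a ≠ 0} := by
      refine lt_of_le_of_ne (Nat.card_le_card_of_injective j hj) fun e => hns ?_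
      exact ((Nat.bijective_iff_injective_and_card j).2 ⟨hj, e⟩).2
    have hc := card_nonvanishing (n := n) ({1} : Finset F) (by simp; omega)
    have h4 := order_le_of_subgroup (K := F) (by omega) L (unitsK F L) (self_mem_unitsK F L) (scl_mem_unitsK F L)
    rw [Finset.card_singleton, hq, pow_one, pow_one] at hc
    rw [hq] at h4 ⊢
    omega
  · by_cases hns : ∀ c : F, v * iota A σ v ≠ c • (1 : Mat)
    · exact bound_of_witness A σ (by omega) hσ L h v hvmem hdet hns
    push Not at hns
    obtain ⟨c, hc⟩ := hns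
    rw [hv, iota_add, iota_add, iota_mul, iota_one, iota_self A σ hσ L h] at hc
    have hc2 := congrArg (fun M => M * ((L : Mat) * L)) hc
    have hinv : (((L⁻¹ : GL (Fin n) F) : Mat) * ((L⁻¹ : GL (Fin n) F) : Mat) +
        ((L⁻¹ : GL (Fin n) F) : Mat) + 1) * ((L : Mat) * L) = v := by
      simp only [add_mul, one_mul, mul_assoc, Units.inv_mul_cancel_left, Units.inv_mul, hv]
      abel
    simp only [mul_assoc, hinv, smul_mul_assoc, one_mul] at hc2
    rw [hv] at hc2
    have hsq : v * v = c • ((L : Mat) * L) := by rw [hv]; exact hc2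
    rcases hall c with rfl | rfl
    · rw [zero_smul] at hsq
      exact absurd (by simpa [Matrix.det_mul] using congrArg Matrix.det hsq) hdet
    · rw [one_smul, hv] at hsq
      have hexp : ((L : Mat) * L + L + 1) * ((L : Mat) * L + L + 1) =
          (L : Mat) ^ 4 + ((L : Mat) * L * L + (L : Mat) * L * L) + ((L : Mat) * L + (L : Mat) * L) +
            ((L : Mat) + L) + (L : Mat) * L + 1 := by
        noncomm_ring
      rw [hexp, h2x, h2x, h2x, add_zero, add_zero, add_zero] at hsq
      have h4 : (L : Mat) ^ 4 + 1 = 0 := by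
        have := sub_eq_zero.2 hsq
        rwa [show (L : Mat) ^ 4 + (L : Mat) * L + 1 - (L : Mat) * L = (L : Mat) ^ 4 + 1 by abel] at this
      have h5 : L ^ 4 = 1 := Units.ext (by
        rw [Units.val_pow_eq_pow_val, eq_neg_of_add_eq_zero_left h4, ← eq_neg_of_add_eq_zero_left (h2x 1),
          Units.val_one])
      have h6 : orderOf (piHom L) ≤ 4 := orderOf_le_of_pow_eq_one (by norm_num) (by rw [← map_pow, h5, map_one])
      rw [hq]
      have h7 : 2 ^ 4 ≤ 2 ^ n := Nat.pow_le_pow_right (by norm_num) hn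
      omega

/-- The twisted bound. -/
theorem twisted (hn : 3 ≤ n) (hne : ¬ (n = 3 ∧ Nat.card F = 2)) (hσ : σ * σ = 1) (L : GL (Fin n) F)
    (h : A * Matrix.GeneralLinearGroup.map σ.toRingHom (itGL L) = L * A) :
    2 * ((Nat.card F - 1) * orderOf (piHom L)) ≤ Nat.card F ^ n - 1 := by
  classical
  by_cases hw : ∃ c : F, c ≠ 0 ∧ ((L : Mat) + c • 1).det ≠ 0
  · obtain ⟨c, hc0, hdet⟩ := hw
    by_cases hns : ∀ e : F, ((L : Mat) + c • 1) * iota A σ ((L : Mat) + c • 1) ≠ e • (1 : Mat)
    · exact bound_of_witness A σ (by omega) hσ L h _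
        (add_mem (Algebra.self_mem_adjoin_singleton F _) (Subalgebra.smul_mem _ (one_mem _) _)) hdet hns
    push Not at hns
    obtain ⟨e, he⟩ := hns
    refine bound_of_small hn L ?_ ?_ (norm_add_scalar A σ hσ L h c e he)
    · intro h0
      have := congrArg (fun p => Polynomial.coeff p 0) h0
      simp at this
      exact hc0 this
    · compute_degree
  push Not at hw
  have hall : ∀ a : F, a ≠ 0 → ((L : Mat) - a • 1).det = 0 := fun a ha => by
    have := hw (-a) (neg_ne_zero.2 ha)
    rwa [neg_smul, ← sub_eq_add_neg] at this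
  have hq : 2 ≤ Nat.card F := Finite.one_lt_card
  rcases Nat.eq_or_lt_of_le hq with h2 | h3
  · exact two_case A σ (by omega) hσ h2.symm L h (hall 1 one_ne_zero)
  · exact bound_of_eigen (by omega) h3 L hall

end CfsgLib.KnownC.AutPSL.MaxOrd
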