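import Cfsg.Agent.Lib.KnownC.AutPSL.Main
import Cfsg.Agent.Lib.KnownC.AutPSL.Split
import Mathlib

set_option autoImplicit false
set_option linter.unusedSectionVars false

/-! Unit groups of algebras generated by one matrix, acting on `PSL_n`. -/

namespace CfsgLib.KnownC.AutPSL.MaxOrd

open Matrix Polynomial CfsgLib.KnownC.AutPSL

variable {F : Type*} [Field F] [Finite F] {n : ℕ}

local notation "Mat" => Matrix (Fin n) (Fin n) F
local notation "PSLn" => Matrix.ProjectiveSpecialLinearGroup (Fin n) F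

/-- The action of `GL_n` on `PSL_n` by conjugation. -/
noncomputable def piHom : GL (Fin n) F →* MulAut PSLn where
  toFun g := semiAut g (RingEquiv.refl F)
  map_one' := semiAut_one
  map_mul' a b := (refl_mul a b).symm

theorem piHom_scl (c : Fˣ) : piHom (scl c : GL (Fin n) F) = 1 := semiAut_scl c

variable (K : Type*) [Field K] [Algebra K F]

/-- The units of `K[g]`, as a subgroup of `GL_n(F)`. -/
def unitsK (g : GL (Fin n) F) : Subgroup (GL (Fin n) F) where
  carrier := {x | (x : Mat) ∈ Algebra.adjoin K {(g : Mat)}}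
  one_mem' := one_mem (Algebra.adjoin K {(g : Mat)})
  mul_mem' {a b} ha hb := mul_mem (s := Algebra.adjoin K {(g : Mat)}) ha hb
  inv_mem' {x} hx := by
    classical
    have h : x⁻¹ ∈ Submonoid.powers x := by
      rw [mem_powers_iff_mem_zpowers]; exact inv_mem (Subgroup.mem_zpowers x)
    obtain ⟨k, hk⟩ := h
    show ((x⁻¹ : GL (Fin n) F) : Mat) ∈ Algebra.adjoin K {(g : Mat)}
    rw [← hk, Units.val_pow_eq_pow_val]
    exact pow_mem hx k

theorem mem_unitsK {g x : GL (Fin n) F} : x ∈ unitsK K g ↔ (x : Mat) ∈ Algebra.adjoin K {(g : Mat)} := Iff.rfl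

theorem self_mem_unitsK (g : GL (Fin n) F) : g ∈ unitsK K g := Algebra.self_mem_adjoin_singleton K _

theorem scl_mem_unitsK (g : GL (Fin n) F) (u : Kˣ) :
    scl (Units.map (algebraMap K F).toMonoidHom u) ∈ unitsK K g := by
  rw [mem_unitsK, scl_coe]
  have : ((Units.map (algebraMap K F).toMonoidHom u : Fˣ) : F) • (1 : Mat) = algebraMap K Mat (u : K) := by
    rw [Algebra.algebraMap_eq_smul_one, ← algebraMap_smul F (u : K) (1 : Mat)]
    rfl
  rw [this]
  exact Subalgebra.algebraMap_mem _ _

variable {K}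

/-- Every element of `K[g]` is a combination of `1, g, …, g^(e-1)` if a monic of degree `e` kills `g`. -/
theorem exists_coeffs (g : GL (Fin n) F) {Q : K[X]} (hQ : Q.Monic) {e : ℕ} (he : Q.natDegree = e)
    (h0 : Polynomial.aeval (g : Mat) Q = 0) (x : Mat) (hx : x ∈ Algebra.adjoin K {(g : Mat)}) :
    ∃ f : Fin e → K, ∑ i, f i • (g : Mat) ^ (i : ℕ) = x := by
  rcases subsingleton_or_nontrivial Mat with hs | hn
  · exact ⟨fun _ => 0, Subsingleton.elim _ _⟩
  rw [Algebra.adjoin_singleton_eq_range_aeval] at hx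
  obtain ⟨f, rfl⟩ := hx
  have h1 : Q ≠ 1 := fun h => by rw [h, map_one] at h0; exact one_ne_zero h0
  have hdeg : (f %ₘ Q).natDegree < e := he ▸ Polynomial.natDegree_modByMonic_lt f hQ h1
  refine ⟨fun i => (f %ₘ Q).coeff i, ?_⟩
  show _ = Polynomial.aeval (g : Mat) f
  rw [← Polynomial.aeval_modByMonic_eq_self_of_root (p := f) h0, Polynomial.aeval_eq_sum_range' hdeg,
    Finset.sum_range]

theorem card_unitsK (g : GL (Fin n) F) {Q : K[X]} (hQ : Q.Monic) {e : ℕ} (he : Q.natDegree = e)
    (h0 : Polynomial.aeval (g : Mat) Q = 0) (hn : 1 ≤ n) [Finite K] :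
    Nat.card (unitsK K g) + 1 ≤ Nat.card K ^ e := by
  classical
  haveI : Nonempty (Fin n) := ⟨⟨0, hn⟩⟩
  choose f hf using fun x : unitsK K g => exists_coeffs g hQ he h0 _ x.2
  let j : Option (unitsK K g) → (Fin e → K) := fun o => match o with
    | none => 0
    | some x => f x
  have hne : ∀ x, f x ≠ 0 := fun x hx => by
    have := hf x
    simp only [hx, Pi.zero_apply, zero_smul, Finset.sum_const_zero] at this
    exact Units.ne_zero _ this.symm
  have hj : Function.Injective j := by
    rintro (_ | x) (_ | y) h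
    · rfl
    · exact absurd h.symm (hne y)
    · exact absurd h (hne x)
    · refine congrArg some (Subtype.ext (Units.ext ?_))
      rw [← hf x, ← hf y, show f x = f y from h]
  have := Nat.card_le_card_of_injective j hj
  rwa [Finite.card_option, Nat.card_fun, Nat.card_fin] at this

/-- A subgroup containing `g` and the scalars from `K` bounds the order of the image of `g`. -/
theorem order_le_of_subgroup [Finite K] (hn : 1 ≤ n) (g : GL (Fin n) F) (H : Subgroup (GL (Fin n) F)) (hg : g ∈ H)
    (hscl : ∀ u : Kˣ, scl (Units.map (algebraMap K F).toMonoidHom u) ∈ H) :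
    (Nat.card K - 1) * orderOf (piHom g) ≤ Nat.card H := by
  classical
  set ψ : H →* MulAut PSLn := piHom.comp H.subtype with hψ
  have hk : Nat.card K - 1 ≤ Nat.card ψ.ker := by
    rw [← Nat.card_units K]
    refine Nat.card_le_card_of_injective (fun u => (⟨⟨_, hscl u⟩, piHom_scl _⟩ : ψ.ker)) fun u v h => ?_
    have h2 := congrArg (fun x : ψ.ker => (x : GL (Fin n) F)) h
    exact Units.map_injective (FaithfulSMul.algebraMap_injective K F) (scl_injective hn h2)
  have hr : orderOf (piHom g) ≤ Nat.card ψ.range := by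
    rw [← Nat.card_zpowers]
    exact Subgroup.card_le_of_le (Subgroup.zpowers_le.2 ⟨⟨g, hg⟩, rfl⟩)
  have := Nat.mul_le_mul hk hr
  rwa [← Subgroup.index_ker, Subgroup.card_mul_index] at this

theorem crude [Finite K] (hn : 1 ≤ n) (g : GL (Fin n) F) {Q : K[X]} (hQ : Q.Monic) {e : ℕ} (he : Q.natDegree = e)
    (h0 : Polynomial.aeval (g : Mat) Q = 0) :
    (Nat.card K - 1) * orderOf (piHom g) ≤ Nat.card K ^ e - 1 := by
  have h1 := order_le_of_subgroup hn g (unitsK K g) (self_mem_unitsK K g) (scl_mem_unitsK K g)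
  have h2 := card_unitsK g hQ he h0 hn
  omega

theorem crude_charpoly (hn : 1 ≤ n) (σ : F ≃+* F) (L A : GL (Fin n) F)
    (h : A * Matrix.GeneralLinearGroup.map σ.toRingHom L = L * A) :
    (Nat.card (fixField σ) - 1) * orderOf (piHom L) ≤ Nat.card (fixField σ) ^ n - 1 := by
  classical
  have hmap : (L : Mat).map σ = ((A⁻¹ : GL (Fin n) F) : Mat) * (L : Mat) * (A : Mat) := by
    rw [mul_assoc, ← Units.val_mul L A, ← h, Units.val_mul, ← mul_assoc, Units.inv_mul, one_mul]
    rfl
  have hP : (L : Mat).charpoly.map σ.toRingHom = (L : Mat).charpoly := by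
    rw [← Matrix.charpoly_map]
    show ((L : Mat).map σ).charpoly = _
    rw [hmap, Matrix.coe_units_inv, Matrix.charpoly_units_conj']
  have hco : ∀ i, (L : Mat).charpoly.coeff i ∈ Set.range (fixField σ).subtype := by
    intro i
    have h1 : σ.toRingHom ((L : Mat).charpoly.coeff i) = (L : Mat).charpoly.coeff i := by
      rw [← Polynomial.coeff_map, hP]
    exact ⟨⟨(L : Mat).charpoly.coeff i, mem_fixField.2 h1⟩, rfl⟩
  obtain ⟨Q, hQ⟩ := (Polynomial.mem_lifts _).1 ((Polynomial.lifts_iff_coeff_lifts _).2 hco)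
  have hm : Q.Monic := Polynomial.monic_of_injective (fixField σ).subtype.injective (hQ ▸ Matrix.charpoly_monic _)
  have hd : Q.natDegree = n := by
    rw [← Polynomial.natDegree_map_eq_of_injective (fixField σ).subtype.injective, hQ,
      Matrix.charpoly_natDegree_eq_dim, Fintype.card_fin]
  refine crude hn L hm hd ?_
  rw [← Polynomial.aeval_map_algebraMap F (L : Mat) Q]
  show Polynomial.aeval (L : Mat) (Q.map (fixField σ).subtype) = 0
  rw [hQ, Matrix.aeval_self_charpoly]

end CfsgLib.KnownC.AutPSL.MaxOrd
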